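import Groth.Agent.VeryAmpleLib.Colength
import Groth.Agent.RRVanLib.GG
import Groth.Agent.NefH1Lib.Adjunction.GorCurve
import Groth.Agent.VeryAmpleLib.AlgClosed
import Groth.Agent.GenusZeroLib.Mult
import Groth.Agent.AmpleDevLib.Pull
import Groth.Agent.AmpleThLib.Embed
import Groth.Agent.DevissLib.ClosedImm
import Groth.Agent.ConsLib.ModLoci

/-!
# Complete linear systems of large degree on every subcurve of a reduced curve
-/

set_option autoImplicit false
set_option backward.isDefEq.respectTransparency false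
set_option backward.isDefEq.respectTransparency.types false
set_option maxHeartbeats 1000000
set_option linter.style.haveILetI false
universe u

open CategoryTheory CategoryTheory.Limits AlgebraicGeometry TopologicalSpace Opposite
open AmpleLib DevissLib
open TwistLib (genSet genSet_genOn)
open KFlatLib (pb puSec)
open GenusZeroLib (kmod e0k ρ)
open NefH1Lib.Adj (dJ gJ kJ)
open VeryAmpleLib (cst)

noncomputable section

namespace PluriEmbLib

variable (K : Type u) [Field K] [IsAlgClosed K] {X : Scheme.{u}} [X.Over (Spec (CommRingCat.of K))]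
  [IsProper (X ↘ Spec (CommRingCat.of K))] [IsReduced X] [ConnectedSpace X]

/-- The degree condition on all connected subcurves. -/
def BigDeg (L : X.Modules) : Prop :=
  ∀ J : X.IdealSheafData, IsReduced J.subscheme → ConnectedSpace J.subscheme →
    topologicalKrullDim J.subscheme = 1 → 2 * (gJ K J : ℤ) + 1 ≤ dJ K L J

include K in
omit [IsAlgClosed K] [IsReduced X] [ConnectedSpace X] in
theorem euler_curve (hdim : topologicalKrullDim X = 1) (M : X.Modules) : Curv2.euler K X M =
    (Module.finrank K (Coh.HH X M 0) : ℤ) - (Module.finrank K (Coh.HH X M 1) : ℤ) := by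
  haveI := CurvLib.isNoetherian K (X := X)
  exact CurvLib.euler_eq_sub (k := K) fun n hn => CurvLib.subsingleton_HH_of_dim_le M (d := 1) hdim.le n (by omega)

omit [X.Over (Spec (CommRingCat.of K))] [IsProper (X ↘ Spec (CommRingCat.of K))] [IsReduced X] [ConnectedSpace X] in
theorem support_subset_of_mono {M N : X.Modules} (f : M ⟶ N) [Mono f] : CohB1.support M ⊆ CohB1.support N := fun x hx => by
  intro hsub
  haveI : Subsingleton ((DevissLib.St x).obj N) := hsub
  exact hx (((ModuleCat.mono_iff_injective ((DevissLib.St x).map f)).mp inferInstance).subsingleton)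

/-- A quotient by a bigger ideal is no longer. -/
theorem quot_sup_le (hdim : topologicalKrullDim X = 1) (Z J : X.IdealSheafData)
    (hZ : topologicalKrullDim (Z.support : Set X) ≤ 0) :
    Module.finrank K (Coh.HH X (ClSub.quotMod (Z ⊔ J)) 0) ≤ Module.finrank K (Coh.HH X (ClSub.quotMod Z) 0) := by
  haveI := CurvLib.isNoetherian K (X := X)
  obtain ⟨r, -, hr⟩ := NefH1Lib.Subcurve.exists_quot_map (show Z ≤ Z ⊔ J from le_sup_left)
  haveI := hr
  have hq := CurvLib.isCoh_quotMod Z
  have hq' := CurvLib.isCoh_quotMod (Z ⊔ J)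
  have hk : Coh.IsCoh (kernel r) := QCohLib.isCoh_kernel r hq hq'.1
  have hd : ∀ A : X.IdealSheafData, Z ≤ A → topologicalKrullDim (CohB1.support (ClSub.quotMod A)) ≤ 0 := fun A hA =>
    ((NefH1Lib.Subcurve.dim_mono ((CurvLib.support_quotMod_subset A).trans
      (Scheme.IdealSheafData.support_antitone hA))).trans hZ)
  have hkd : topologicalKrullDim (CohB1.support (kernel r)) ≤ 0 :=
    (NefH1Lib.Subcurve.dim_mono (support_subset_of_mono (kernel.ι r))).trans (hd Z le_rfl)
  have h := CurvLib.euler_add_of_isCoh (k := K) (NefH1Lib.kernel_shortExact r) hk hq hq'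
  dsimp only at h
  rw [CurvLib.euler_eq_h0 (k := K) hk hkd, CurvLib.euler_eq_h0 (k := K) hq (hd Z le_rfl),
    CurvLib.euler_eq_h0 (k := K) hq' (hd _ le_sup_left)] at h
  omega

include K in
omit [IsReduced X] [ConnectedSpace X] [IsAlgClosed K] in
/-- The projection formula for the structure sheaf of a closed subscheme. -/
theorem nonempty_tensor_quot {Z : Scheme.{u}} (i : Z ⟶ X) [IsClosedImmersion i] {L : X.Modules}
    (hL : PicF.IsInvertible L) :
    Nonempty (CohB1.tensorMod L (ClSub.quotMod i.ker) ≅ (Coh.push i).obj (pb i L)) := by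
  haveI := CurvLib.isNoetherian K (X := X)
  haveI : IsLocallyNoetherian Z := LocallyOfFiniteType.isLocallyNoetherian i
  obtain ⟨eq⟩ := SurfNumLib.quotMod_ker_iso i
  have hLf : FlatMod.IsFinLocFree L := CurveVBLib.isFinLocFree_of_rank (CurvLib.locFree_of_isInvertible hL)
  haveI : Coh.IsQCoh (Coh.structureModule Z) := QCohLib.isQCoh_unit
  let pr := @asIso _ _ _ _ (ProjFormLib.projApp i L (Coh.structureModule Z))
    (ProjFormLib.isIso_projApp i hLf (Coh.structureModule Z))
  let e2 : CohB1.tensorMod ((Scheme.Modules.pullback i).obj L) (Coh.structureModule Z) ≅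
      (Scheme.Modules.pullback i).obj L :=
    KFlatLib.tensSwap (Coh.structureModule Z) _ ≪≫ KFlatLib.tensUnitIso _
  exact ⟨SerreVanLib.tensorCongr L eq ≪≫ pr ≪≫ (Coh.push i).mapIso e2⟩

/-- No `H¹` after removing a subscheme of length two. -/
theorem h1_ideal (hdim : topologicalKrullDim X = 1) {L : X.Modules} (hL : PicF.IsInvertible L)
    (H : BigDeg K L) (Z : X.IdealSheafData) (hZ : topologicalKrullDim (Z.support : Set X) ≤ 0)
    (h2 : Module.finrank K (Coh.HH X (ClSub.quotMod Z) 0) ≤ 2) :
    Subsingleton (Coh.HH X (CohB1.tensorMod (ClSub.idealMod Z) L) 1) := by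
  haveI := CurvLib.isNoetherian K (X := X)
  by_contra hnt
  rw [not_subsingleton_iff_nontrivial] at hnt
  obtain ⟨J, hr, hc, hd, hle⟩ := NefH1Lib.Subcurve.exists_subcurve K hdim hL Z hZ hnt
  have hH := H J hr hc hd
  have hq := le_trans (quot_sup_le K hdim Z J hZ) h2
  letI : J.subscheme.Over (Spec (CommRingCat.of K)) := ⟨J.subschemeι ≫ (X ↘ Spec (CommRingCat.of K))⟩
  haveI : IsProper (J.subscheme ↘ Spec (CommRingCat.of K)) :=
    inferInstanceAs (IsProper (J.subschemeι ≫ (X ↘ Spec (CommRingCat.of K))))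
  haveI := hr
  haveI := hc
  have he := euler_curve K hd (Coh.structureModule J.subscheme)
  rw [NefH1Lib.Adj.finrank_h0 K] at he
  rw [he] at hle
  change 2 * (Curv2.genus K J.subscheme : ℤ) + 1 ≤ _ at hH
  change _ ≤ -2 * ((1 : ℕ) - (Curv2.genus K J.subscheme : ℤ) : ℤ) + _ at hle
  unfold dJ at hH
  omega

set_option maxHeartbeats 4000000 in
/-- The ratios of a spanning family are not all constant on a subscheme of length two. -/
theorem ratios_separate (hdim : topologicalKrullDim X = 1) {L : X.Modules} (hL : PicF.IsInvertible L)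
    (H : BigDeg K L) {m : ℕ} (v : Fin m → Γ(L, ⊤))
    (hspan : ∀ t : Γ(L, ⊤), ∃ c : Fin m → K, t = ∑ l, ρ (X := X) K (c l) • v l)
    (σ : Γ(L, ⊤)) (hV : IsAffineOpen (genSet hL σ)) (J : Ideal Γ(X, genSet hL σ))
    (hJ : letI := (cst K (genSet hL σ)).toAlgebra; Module.finrank K (Γ(X, genSet hL σ) ⧸ J) = 2)
    (hc : ∀ l, ∃ (c : K) (a : Γ(X, genSet hL σ)),
      a • res L (le_top : genSet hL σ ≤ ⊤) σ = res L le_top (v l) ∧ a - cst K (genSet hL σ) c ∈ J) : False := by
  classical
  haveI := CurvLib.isNoetherian K (X := X)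
  let V := genSet hL σ
  letI : Algebra K Γ(X, V) := (cst K V).toAlgebra
  let B := Γ(X, V) ⧸ J
  haveI : Module.Finite K B := Module.finite_of_finrank_pos (by rw [hJ]; omega)
  let Z : Scheme.{u} := Spec (CommRingCat.of B)
  let mk : Γ(X, V) ⟶ CommRingCat.of B := CommRingCat.ofHom (Ideal.Quotient.mk J)
  let i : Z ⟶ X := Spec.map mk ≫ hV.fromSpec
  letI : Z.Over (Spec (CommRingCat.of K)) := ⟨i ≫ X ↘ Spec (CommRingCat.of K)⟩
  have hZ : i ≫ X ↘ Spec (CommRingCat.of K) = Spec.map (CommRingCat.ofHom (algebraMap K B)) := by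
    have h1 := IsAffineOpen.SpecMap_appLE_fromSpec (X ↘ Spec (CommRingCat.of K)) (isAffineOpen_top _) hV
      (show V ≤ (X ↘ Spec (CommRingCat.of K)) ⁻¹ᵁ ⊤ from le_top)
    rw [Category.assoc, ← h1, IsAffineOpen.fromSpec_top, Scheme.isoSpec_Spec_inv, ← Spec.map_comp, ← Spec.map_comp]
    rfl
  haveI : IsFinite (Spec.map (CommRingCat.ofHom (algebraMap K B))) :=
    (IsFinite.SpecMap_iff _).mpr (RingHom.finite_algebraMap.mpr inferInstance)
  haveI : IsProper (i ≫ X ↘ Spec (CommRingCat.of K)) := by rw [hZ]; infer_instance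
  haveI : IsProper i := IsProper.of_comp i (X ↘ Spec (CommRingCat.of K))
  haveI : IsClosedImmersion (Spec.map mk) := IsClosedImmersion.spec_of_surjective _ Ideal.Quotient.mk_surjective
  haveI : Mono i := inferInstanceAs (Mono (Spec.map mk ≫ hV.fromSpec))
  haveI : IsClosedImmersion i := (IsClosedImmersion.iff_isProper_and_mono _).mpr ⟨inferInstance, inferInstance⟩
  have hiV : i ⁻¹ᵁ V = ⊤ := eq_top_iff.mpr fun z _ => by
    change hV.fromSpec ((Spec.map mk) z) ∈ V
    exact hV.range_fromSpec.le ⟨_, rfl⟩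
  -- the restriction of the generator
  let M : Z.Modules := pb i L
  let e : Γ(M, ⊤) := puSec i σ
  have hsV : GenOn L (res L (le_top : V ≤ ⊤) σ) := genSet_genOn hL σ
  have he : GenOn M e := TwistLib.genOn_of_genAt fun z hz => by
    have h1 := TwistLib.GenAt.puSec i (x := z) (hx := (show i z ∈ V from hiV.ge hz))
      (hsV.genAt (hiV.ge hz))
    rw [TwistLib.puSec_res] at h1
    exact (genAt_res _ _ _).mp h1
  have hmk : Function.Surjective (i.app V) := Scheme.Hom.app_surjective i V hV
  -- dimension of sections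
  letI := kmod K M
  have hfM : Module.finrank K (Coh.HH Z M 0) = 2 := by
    rw [(e0k K M).finrank_eq]
    let f : B →ₗ[K] Γ(M, ⊤) :=
      { toFun := fun b => (show Γ(Z, ⊤) from (Scheme.ΓSpecIso (CommRingCat.of B)).inv b) • e
        map_add' := fun a b => by rw [map_add]; exact add_smul _ _ _
        map_smul' := fun c b => by
          refine Eq.trans (congrArg (fun r : Γ(Z, ⊤) => r • e) ?_) (mul_smul (ρ (X := Z) K c) _ e)
          rw [Algebra.smul_def, map_mul]
          refine congrArg (· * _) ?_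
          refine Eq.trans ?_ (congrArg (fun g : Z ⟶ Spec (CommRingCat.of K) => Coh.toGlobal g c) hZ).symm
          exact (ConcreteCategory.congr_hom (Scheme.ΓSpecIso_inv_naturality (CommRingCat.ofHom (algebraMap K B))) c) }
    have hf : Function.Bijective f := by
      have h1 := he ⊤ le_rfl
      simp only [AmpleLib.res_refl] at h1
      exact h1.comp (ConcreteCategory.bijective_of_isIso (Scheme.ΓSpecIso (CommRingCat.of B)).inv)
    rw [← (LinearEquiv.ofBijective f hf).finrank_eq, hJ]
  -- the restriction map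
  let Q : X.Modules := (Coh.push i).obj M
  have hMc : Coh.IsCoh M := by
    haveI : IsProper (Z ↘ Spec (CommRingCat.of K)) := inferInstanceAs (IsProper (i ≫ X ↘ Spec (CommRingCat.of K)))
    haveI : IsNoetherian Z := CurvLib.isNoetherian K (X := Z)
    exact CurvLib.isCoh_of_isInvertible (AmpleDevLib.isInvertible_pb i hL)
  have hQc : Coh.IsCoh Q := QCohLib.isCoh_push_finite i M hMc
  obtain ⟨eT⟩ := nonempty_tensor_quot K i hL
  let I := i.ker
  haveI := NefH1Lib.Adj.mono_idealModι I
  let S₀ : ShortComplex X.Modules := ShortComplex.mk (ClSub.idealModι I) (ClSub.toSubscheme I) (kernel.condition _)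
  have hS₀ : S₀.ShortExact :=
    { exact := ShortComplex.exact_of_f_is_kernel _ (kernelIsKernel _)
      mono_f := inferInstanceAs (Mono (kernel.ι (ClSub.toSubscheme I)))
      epi_g := inferInstanceAs (Epi (ClSub.toSubscheme I)) }
  have hT := HilbPolyLib.shortExact_tensor hL hS₀
  let u : L ⟶ CohB1.tensorMod L (Coh.structureModule X) :=
    (KFlatLib.tensSwap (Coh.structureModule X) L ≪≫ KFlatLib.tensUnitIso L : CohB1.tensorMod L (Coh.structureModule X) ≅ L).inv
  haveI : IsIso u := inferInstanceAs (IsIso (Iso.inv _))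
  let τ : CohB1.tensorMod L (Coh.structureModule X) ⟶ CohB1.tensorMod L (ClSub.quotMod I) :=
    (CurvLib.tensorLeft' L).map (ClSub.toSubscheme I)
  haveI : Epi τ := hT.epi_g
  let π : L ⟶ Q := u ≫ τ ≫ eT.hom
  have hQd : topologicalKrullDim (CohB1.support Q) ≤ 0 := by
    haveI : IsArtinianRing B := IsArtinianRing.of_finite K B
    haveI : Finite Z := inferInstanceAs (Finite (PrimeSpectrum B))
    haveI : DiscreteTopology Z := inferInstanceAs (DiscreteTopology (PrimeSpectrum B))
    refine le_trans (Topology.IsEmbedding.inclusion (DevissLib.support_push_subset i M)).isInducing.topologicalKrullDim_le ?_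
    refine le_of_eq_of_le (IsHomeomorph.topologicalKrullDim_eq _ (i.isClosedEmbedding.toIsEmbedding.toHomeomorph.symm.isHomeomorph)) ?_
    exact topologicalKrullDim_zero_of_discreteTopology Z
  have hLc := CurvLib.isCoh_of_isInvertible hL
  haveI : Subsingleton (Coh.HH X L 1) :=
    NefH1Lib.Adj.subsingleton_h1 K hdim hL fun J hr hc hd => by have := H J hr hc hd; omega
  let N : X.Modules := kernel π
  have hN : Coh.IsCoh N := QCohLib.isCoh_kernel π hLc hQc.1
  let S : ShortComplex X.Modules := ShortComplex.mk (kernel.ι π) π (kernel.condition π)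
  have hS : S.ShortExact :=
    { exact := ShortComplex.exact_of_f_is_kernel _ (kernelIsKernel _)
      mono_f := inferInstanceAs (Mono (kernel.ι π))
      epi_g := inferInstanceAs (Epi π) }
  have hadd := CurvLib.euler_add_of_isCoh (k := K) hS hN hLc hQc
  change Curv2.euler K X L = Curv2.euler K X N + Curv2.euler K X Q at hadd
  rw [CurvLib.euler_eq_h0 (k := K) hQc hQd, ← DegPullLib.finrank_H0_push K i rfl M, hfM] at hadd
  -- the image of the sections is at most a line
  let b := CurvLib.hMap (k := K) π 0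
  letI := kmod K Q
  letI := kmod K L
  have hline : ∀ y, ∃ c : K, c • (e0k K Q).symm (π.app ⊤ σ) = b y := fun y => by
    obtain ⟨c, hy⟩ := hspan (DegPullLib.e0 L y)
    choose d a ha hd using hc
    refine ⟨∑ l, c l * d l, ?_⟩
    apply (e0k K Q).injective
    rw [map_smul, LinearEquiv.apply_symm_apply]
    refine Eq.trans ?_ (RRVanLib.e0_map (k := K) π y).symm
    change (∑ l, c l * d l) • π.app ⊤ σ = _
    rw [hy, Finset.sum_smul, map_sum]
    refine Finset.sum_congr rfl fun l _ => ?_
    change ρ (X := X) K (c l * d l) • π.app ⊤ σ = π.app ⊤ (ρ (X := X) K (c l) • v l)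
    rw [map_mul, mul_smul, Scheme.Modules.Hom.app_smul]
    refine congrArg (ρ (X := X) K (c l) • ·) ?_
    -- restrict to `V`
    have hinj : Function.Injective (res M (le_top : i ⁻¹ᵁ V ≤ ⊤)) := fun p q hpq => by
      refine TwistLib.mod_ext M fun z _ => ?_
      have hz : z ∈ i ⁻¹ᵁ V := hiV.ge trivial
      refine (TopCat.Presheaf.germ_res_apply M.presheaf (homOfLE (le_top : i ⁻¹ᵁ V ≤ ⊤)) z hz p).symm.trans ?_
      exact (congrArg (M.presheaf.germ _ z hz) hpq).trans
        (TopCat.Presheaf.germ_res_apply M.presheaf (homOfLE (le_top : i ⁻¹ᵁ V ≤ ⊤)) z hz q)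
    apply hinj
    have h2 : i.app V (a l) = i.app V (cst K V (d l)) := by
      have hzero : ∀ x ∈ J, i.app V x = 0 := fun x hx => by
        rw [Scheme.Hom.comp_app, hV.fromSpec_app_self]
        change (Spec.map mk).app _ ((Spec Γ(X, V)).presheaf.map _ ((Scheme.ΓSpecIso Γ(X, V)).inv x)) = 0
        rw [← CommRingCat.comp_apply ((Spec Γ(X, V)).presheaf.map _), Scheme.Hom.naturality]
        change (Z.presheaf.map _) ((Spec.map mk).appTop ((Scheme.ΓSpecIso Γ(X, V)).inv x)) = 0
        rw [← CommRingCat.comp_apply (Scheme.ΓSpecIso Γ(X, V)).inv, ← Scheme.ΓSpecIso_inv_naturality]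
        change (Z.presheaf.map _) ((Scheme.ΓSpecIso (CommRingCat.of B)).inv (Ideal.Quotient.mk J x)) = 0
        rw [Ideal.Quotient.eq_zero_iff_mem.mpr hx, map_zero, map_zero]
      exact sub_eq_zero.mp (by rw [← map_sub]; exact hzero _ (hd l))
    have hn : ∀ t : Γ(L, ⊤), (show Γ(M, i ⁻¹ᵁ V) from π.app V (res L (le_top : V ≤ ⊤) t)) =
        res M (le_top : i ⁻¹ᵁ V ≤ ⊤) (show Γ(M, ⊤) from π.app ⊤ t) := fun t =>
      QCohLib.app_map π (homOfLE (le_top : V ≤ ⊤)) t
    have h3 : (show Γ(M, i ⁻¹ᵁ V) from π.app V (res L (le_top : V ≤ ⊤) (v l))) =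
        (show Γ(Z, i ⁻¹ᵁ V) from i.app V (cst K V (d l))) •
          (show Γ(M, i ⁻¹ᵁ V) from π.app V (res L (le_top : V ≤ ⊤) σ)) := by
      rw [← ha l, Scheme.Modules.Hom.app_smul]
      change (show Γ(Z, i ⁻¹ᵁ V) from i.app V (a l)) • (show Γ(M, i ⁻¹ᵁ V) from π.app V _) = _
      rw [h2]
    rw [hn, hn] at h3
    refine Eq.trans ?_ h3.symm
    change res M _ ((show Γ(Z, ⊤) from i.app ⊤ (ρ (X := X) K (d l))) • (show Γ(M, ⊤) from π.app ⊤ σ)) = _
    rw [res_smul]
    refine congrArg (fun r : Γ(Z, i ⁻¹ᵁ V) => r • res M _ (show Γ(M, ⊤) from π.app ⊤ σ)) ?_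
    exact (ConcreteCategory.congr_hom (i.naturality (homOfLE (le_top : V ≤ ⊤)).op) (ρ K (d l))).symm
  haveI := CurvLib.finite_HH (k := K) hLc 0
  have hr : Module.finrank K (LinearMap.range b) ≤ 1 := by
    refine le_trans (Submodule.finrank_mono (show LinearMap.range b ≤ K ∙ (e0k K Q).symm (π.app ⊤ σ) from ?_))
      ((finrank_span_le_card _).trans (by simp))
    rintro _ ⟨y, rfl⟩
    obtain ⟨c, hc'⟩ := hline y
    exact Submodule.mem_span_singleton.mpr ⟨c, hc'⟩
  have hrk := LinearMap.finrank_range_add_finrank_ker b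
  rw [← CurvLib.exact₂ (k := K) hS 0, LinearMap.finrank_range_of_inj (CurvLib.injective₀ (k := K) hS)] at hrk
  change Module.finrank K (LinearMap.range b) + Module.finrank K (Coh.HH X N 0) = Module.finrank K (Coh.HH X L 0) at hrk
  have hχL := euler_curve K hdim L
  rw [Module.finrank_zero_of_subsingleton (R := K) (M := Coh.HH X L 1)] at hχL
  have hχN := euler_curve K hdim N
  haveI : Subsingleton (Coh.HH X N 1) := by
    -- the kernel is the twisted ideal
    have hcomp : ((CurvLib.tensorLeft' L).map (ClSub.idealModι I) ≫ inv u) ≫ π = 0 := by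
      simp only [π, Category.assoc, IsIso.inv_hom_id_assoc]
      rw [← Category.assoc, show (CurvLib.tensorLeft' L).map (ClSub.idealModι I) ≫ τ = 0 from (S₀.map (CurvLib.tensorLeft' L)).zero]
      exact zero_comp
    let j := kernel.lift π _ hcomp
    haveI : IsIso j := by
      let S₁ : ShortComplex X.Modules := ShortComplex.mk _ π hcomp
      let eS : (S₀.map (CurvLib.tensorLeft' L)) ≅ S₁ :=
        ShortComplex.isoMk (Iso.refl _) (asIso (inv u)) eT
          (Category.id_comp _) (by
            change inv u ≫ u ≫ τ ≫ eT.hom = τ ≫ eT.hom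
            rw [IsIso.inv_hom_id_assoc])
      have hS₁ := ShortComplex.shortExact_of_iso eS hT
      haveI : Mono S₁.f := hS₁.mono_f
      exact (IsLimit.conePointUniqueUpToIso hS₁.fIsKernel (kernelIsKernel π)).isIso_hom
    have hi : topologicalKrullDim (I.support : Set X) ≤ 0 := by
      rw [show (I.support : Set X) = Set.range i from by
        rw [Scheme.Hom.support_ker]; exact i.isClosedEmbedding.isClosed_range.closure_eq]
      haveI : IsArtinianRing B := IsArtinianRing.of_finite K B
      haveI : Finite Z := inferInstanceAs (Finite (PrimeSpectrum B))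
      haveI : DiscreteTopology Z := inferInstanceAs (DiscreteTopology (PrimeSpectrum B))
      exact le_of_eq_of_le (IsHomeomorph.topologicalKrullDim_eq _ (i.isClosedEmbedding.toIsEmbedding.toHomeomorph.symm.isHomeomorph))
        (topologicalKrullDim_zero_of_discreteTopology Z)
    have hI2 : Module.finrank K (Coh.HH X (ClSub.quotMod I) 0) ≤ 2 := by
      have hIc := CurvLib.isCoh_quotMod I
      have hId := (NefH1Lib.Subcurve.dim_mono (CurvLib.support_quotMod_subset I)).trans hi
      have h := NefH1Lib.Adj.euler_tensor_of_dim_zero K hL hIc hId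
      rw [CurvLib.euler_congr (k := K) eT, CurvLib.euler_eq_h0 (k := K) hQc hQd,
        CurvLib.euler_eq_h0 (k := K) hIc hId, ← DegPullLib.finrank_H0_push K i rfl M, hfM] at h
      omega
    have hs : Subsingleton (Coh.HH X (KFlatLib.tens (ClSub.idealMod I) L) 1) := h1_ideal K hdim hL H I hi hI2
    exact @Equiv.subsingleton _ _ (CurvLib.hIso (k := K) (KFlatLib.tensSwap L (ClSub.idealMod I) ≪≫ asIso j) 1).symm.toEquiv hs
  rw [Module.finrank_zero_of_subsingleton (R := K) (M := Coh.HH X N 1)] at hχN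
  omega

/-- A finite morphism given on charts by ratios of a spanning family is a closed immersion. -/
theorem isClosedImmersion_of_span (hdim : topologicalKrullDim X = 1) {L : X.Modules} (hL : PicF.IsInvertible L)
    (H : BigDeg K L) {m : ℕ} (v : Fin m → Γ(L, ⊤))
    (hspan : ∀ t : Γ(L, ⊤), ∃ c : Fin m → K, t = ∑ l, ρ (X := X) K (c l) • v l)
    {Q : Scheme.{u}} (q : Q ⟶ Spec (CommRingCat.of K)) (h : X ⟶ Q) [IsFinite h]
    (hq : h ≫ q = X ↘ Spec (CommRingCat.of K)) (D : Fin m → Q.Opens) (hD : ∀ j, IsAffineOpen (D j))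
    (hpre : ∀ j, h ⁻¹ᵁ D j = genSet hL (v j)) (hcov : ∀ x : X, ∃ j, x ∈ genSet hL (v j))
    (hu : ∀ j l, ∃ r : Γ(Q, D j), h.appLE (D j) (genSet hL (v j)) (hpre j).ge r •
      res L (le_top : genSet hL (v j) ≤ ⊤) (v j) = res L le_top (v l)) :
    IsClosedImmersion h := by
  haveI : IsImmersion h := by
    refine AmpleThLib.isImmersion_of_local h D (fun x => (hcov x).imp fun j hj => (hpre j).ge hj) fun j => ?_
    let V := genSet hL (v j)
    have hVa : IsAffineOpen V := by
      rw [show V = h ⁻¹ᵁ D j from (hpre j).symm]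
      exact (hD j).preimage h
    have : IsAffine (h ⁻¹ᵁ D j).toScheme := (hpre j).symm ▸ hVa
    have : IsAffine (D j).toScheme := hD j
    refine IsClosedImmersion.of_surjective_of_isAffine _ ?_
    rw [Scheme.Hom.appTop, morphismRestrict_app']
    refine AmpleThLib.surjective_appLE_congr h (D j).ι_image_top.symm
      ((hpre j).symm.trans (Scheme.Opens.ι_image_top _).symm) (hpre j).ge _ ?_
    letI : Algebra K Γ(X, V) := (cst K V).toAlgebra
    have hcst : ∀ c : K, cst K V c ∈ (h.appLE (D j) V (hpre j).ge).hom.range := fun c => by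
      refine ⟨q.appLE ⊤ (D j) le_top ((Scheme.ΓSpecIso (CommRingCat.of K)).inv c), ?_⟩
      rw [← CommRingCat.comp_apply, Scheme.Hom.appLE_comp_appLE]
      simp only [hq]
      rfl
    haveI : Algebra.FiniteType K Γ(X, V) := by
      have h1 : ((X ↘ Spec (CommRingCat.of K)).appLE ⊤ V le_top).hom.FiniteType :=
        LocallyOfFiniteType.finiteType_appLE _ (isAffineOpen_top _) hVa _
      exact h1.comp (RingHom.FiniteType.of_surjective (Scheme.ΓSpecIso (CommRingCat.of K)).inv.hom
        (ConcreteCategory.bijective_of_isIso (Scheme.ΓSpecIso (CommRingCat.of K)).inv).2)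
    refine VeryAmpleLib.surjective_of_no_colength_two (K := K) (h.appLE (D j) V (hpre j).ge).hom ?_ hcst fun J hJ hall => ?_
    · have h1 : ∀ (W : X.Opens) (hW : W = h ⁻¹ᵁ D j), (h.appLE (D j) W hW.le).hom.Finite := by
        rintro W rfl
        rw [← Scheme.Hom.app_eq_appLE]
        exact IsFinite.finite_app h (D j) (hD j)
      exact h1 V (hpre j).symm
    · refine ratios_separate K hdim hL H v hspan (v j) hVa J hJ fun l => ?_
      obtain ⟨r, hr⟩ := hu j l
      obtain ⟨c, hc⟩ := hall r
      exact ⟨c, _, hr, hc⟩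
  exact IsClosedImmersion.of_isPreimmersion h h.isClosedMap.isClosed_range

end PluriEmbLib

end
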