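import Groth.Agent.PluriEmbLib.AlgClosed
import Groth.Agent.S1611
import Groth.Agent.SquareLib.BCSpan
import Groth.Agent.MiscFlat6.TopDimCovers
import Groth.Agent.S4673
import Groth.Agent.NefH1Lib.Embed
import Groth.Agent.NodalLib.NodalChar

/-!
# Very ampleness from the degrees on the subcurves of the geometric base change
-/

set_option autoImplicit false
set_option backward.isDefEq.respectTransparency false
set_option backward.isDefEq.respectTransparency.types false
set_option maxHeartbeats 2000000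
set_option linter.style.haveILetI false
universe u

open CategoryTheory CategoryTheory.Limits AlgebraicGeometry TopologicalSpace Opposite
open AmpleLib (GenAt GenOn res)
open TwistLib (genSet)
open KFlatLib (pb puSec)
open GenusZeroLib (kmod e0k ρ)

noncomputable section

namespace PluriEmbLib

variable (k : Type u) [Field k] (X : Scheme.{u}) [X.Over (Spec (CommRingCat.of k))]
  (K : Type u) [Field K] [Algebra k K]

attribute [local instance] VeryAmpleLib.bcOver

/-- The dimension of the base change of a reduced connected curve. -/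
theorem dim_bc [IsProper (X ↘ Spec (CommRingCat.of k))] [IsReduced X] [ConnectedSpace X]
    (hdim : topologicalKrullDim X = 1) : topologicalKrullDim ↥(Curv2.bc k X K) = 1 := by
  haveI : LocallyOfFiniteType (X ↘ Spec (CommRingCat.of k)) := inferInstance
  have h := Groth.Agent.S4673.result (K := K) (X ↘ Spec (CommRingCat.of k))
  have hd := NefH1Lib.Subcurve.equidim k hdim
  have h1 : ∀ Z ∈ irreducibleComponents ↥(Curv2.bc k X K), topologicalKrullDim ↥Z = 1 := fun T hT => by
    obtain ⟨Z, hZ, hTZ⟩ := h.subset ⟨T, hT, rfl⟩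
    exact hTZ.symm.trans (by simpa using hd Z hZ)
  rw [MiscFlat6.dim_eq_iSup_components]
  refine le_antisymm (iSup₂_le fun Z hZ => (h1 Z hZ).le) ?_
  obtain ⟨y, -⟩ := GeoPtLib.surjective_fst (K := K) (X ↘ Spec (CommRingCat.of k)) (Classical.arbitrary X)
  obtain ⟨Z, hZ, -⟩ := exists_mem_irreducibleComponents_subset_of_isIrreducible {y} isIrreducible_singleton
  exact (h1 Z hZ).ge.trans (le_iSup₂ (f := fun (Y : Set _) (_ : Y ∈ irreducibleComponents _) => topologicalKrullDim ↥Y) Z hZ)

theorem rho_compat (c : k) :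
    (Curv2.bcFst k X K).app ⊤ (NefH1Lib.gl (X ↘ Spec (CommRingCat.of k)) c) =
      ρ (X := Curv2.bc k X K) K (algebraMap k K c) := by
  have h1 := congrArg (fun f : Curv2.bc k X K ⟶ Spec (CommRingCat.of k) => Coh.toGlobal f c)
    (VeryAmpleLib.isPullback_bc k X K).w
  refine h1.trans ?_
  exact congrArg ((Curv2.bcSnd k X K).appTop)
    ((ConcreteCategory.congr_hom (Scheme.ΓSpecIso_inv_naturality (CommRingCat.ofHom (algebraMap k K))) c).symm)

variable {k X}

/-- A line bundle whose base change to an algebraically closed field has big degree on every subcurve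
is very ample. -/
theorem exists_embedding [IsAlgClosed K] [IsProper (X ↘ Spec (CommRingCat.of k))]
    [IsReduced (Curv2.bc k X K)] [ConnectedSpace ↥(Curv2.bc k X K)]
    (hdimK : topologicalKrullDim ↥(Curv2.bc k X K) = 1)
    {L : X.Modules} (hL : PicF.IsInvertible L) (hA : CohB1.IsAmple L)
    (H : @BigDeg K _ (Curv2.bc k X K) (VeryAmpleLib.bcOver k X K) (pb (Curv2.bcFst k X K) L)) :
    (∃ (n : ℕ) (i : X ⟶ CohB1.ProjSpace n k), IsClosedImmersion i ∧
      i ≫ CohB1.ProjSpace.toSpec n k = X ↘ (Spec (CommRingCat.of k)) ∧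
      Nonempty ((Scheme.Modules.pullback i).obj (Twist.twistProjSpace n k 1) ≅ L)) ∧
      Subsingleton (Coh.HH X L 1) := by
  classical
  let g := Curv2.bcFst k X K
  let X' := Curv2.bc k X K
  haveI := VeryAmpleLib.isProper_bc k X K
  haveI := CurvLib.isNoetherian k (X := X)
  haveI := CurvLib.isNoetherian K (X := X')
  have hL' : PicF.IsInvertible (pb g L) := AmpleDevLib.isInvertible_pb g hL
  have hLc := CurvLib.isCoh_of_isInvertible hL
  haveI := hLc.1
  have h1' : Subsingleton (Coh.HH X' (pb g L) 1) :=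
    NefH1Lib.Adj.subsingleton_h1 K hdimK hL' fun J hr hc hd => by have := H J hr hc hd; change _ < NefH1Lib.Adj.dJ K (pb (Curv2.bcFst k X K) L) J; omega
  have h1 : Subsingleton (Coh.HH X L 1) := by
    haveI := CurvLib.finite_HH (k := k) hLc 1
    refine Module.finrank_zero_iff.mp ((HilbPolyLib.finrank_HH_bc (k := k) K (TwistLib.isQCoh_of_isInvertible hL) 1).symm.trans ?_)
    haveI := h1'
    exact Module.finrank_zero_of_subsingleton
  refine ⟨?_, h1⟩
  obtain ⟨n, v, hv⟩ := NefH1Lib.exists_span (X ↘ Spec (CommRingCat.of k)) hLc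
  let v' : Fin (n + 1) → Γ(pb g L, ⊤) := fun j => puSec g (v j)
  haveI : Flat (Spec.map (CommRingCat.ofHom (algebraMap k K))) :=
    Flat.SpecMap_iff.mpr (RingHom.flat_algebraMap_iff.mpr inferInstance)
  -- the sections span after base change
  have hv' : ∀ t : Γ(pb g L, ⊤), ∃ c : Fin (n + 1) → K, t = ∑ l, ρ (X := X') K (c l) • v' l := fun t => by
    letI := kmod K (pb g L)
    have hS := SquareLib.span_puSec_top (VeryAmpleLib.isPullback_bc k X K) L t
    suffices t ∈ Submodule.span K (Set.range v') by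
      obtain ⟨c, hc⟩ := (Submodule.mem_span_range_iff_exists_fun K).mp this
      exact ⟨c, hc.symm⟩
    refine (show AddSubgroup.closure _ ≤ (Submodule.span K (Set.range v')).toAddSubgroup from
      (AddSubgroup.closure_le _).mpr ?_) hS
    rintro _ ⟨b, σ, rfl⟩
    obtain ⟨c, rfl⟩ := hv σ
    obtain ⟨b', rfl⟩ := (ConcreteCategory.bijective_of_isIso (Scheme.ΓSpecIso (CommRingCat.of K)).inv).2 b
    show b' • (show Γ(pb g L, ⊤) from puSec g (∑ l, NefH1Lib.gl (X ↘ Spec (CommRingCat.of k)) (c l) • v l)) ∈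
      Submodule.span K (Set.range v')
    refine Submodule.smul_mem _ _ ?_
    rw [KFlatLib.puSec, map_sum]
    refine Submodule.sum_mem _ fun l _ => ?_
    rw [← KFlatLib.puSec, TwistLib.puSec_smul]
    have e : (show Γ(X', ⊤) from g.app ⊤ (NefH1Lib.gl (X ↘ Spec (CommRingCat.of k)) (c l))) = ρ (X := X') K (algebraMap k K (c l)) := by
      exact PluriEmbLib.rho_compat k X K (c l)
    change (show Γ(X', ⊤) from g.app ⊤ (NefH1Lib.gl (X ↘ Spec (CommRingCat.of k)) (c l))) • (show Γ(pb g L, ⊤) from puSec g (v l)) ∈ _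
    rw [e]
    exact Submodule.smul_mem _ (algebraMap k K (c l)) (Submodule.subset_span ⟨l, rfl⟩)
  have hgen : ∀ j, genSet hL' (v' j) = g ⁻¹ᵁ genSet hL (v j) := fun j => AmpleDevLib.genSet_puSec g hL (v j)
  have hgg' : Curv2.IsGloballyGenerated (pb g L) :=
    NefH1Lib.Subcurve.globallyGenerated K hdimK hL' fun J hr hc hd => by
      have := H J hr hc hd
      change 2 * (NefH1Lib.Adj.gJ K J : ℤ) ≤ NefH1Lib.Adj.dJ K (pb (Curv2.bcFst k X K) L) J
      omega
  have hcov' : ∀ x' : X', ∃ j, x' ∈ genSet hL' (v' j) :=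
    NefH1Lib.cover_of_span hL' hgg' v' fun t => (hv' t).elim fun c hc => ⟨_, hc⟩
  have hcov : ∀ x : X, ∃ j, x ∈ genSet hL (v j) := fun x => by
    obtain ⟨y, rfl⟩ := GeoPtLib.surjective_fst (K := K) (X ↘ Spec (CommRingCat.of k)) x
    obtain ⟨j, hj⟩ := hcov' y
    exact ⟨j, (hgen j).le hj⟩
  obtain ⟨r, hrb, hpre, hcoef, hτ⟩ :=
    GenusZeroLib.exists_toPA_iso (X ↘ Spec (CommRingCat.of k)) hL v hcov
  let p := AmpleThLib.baseA (CohB1.polyGrading n k)
  haveI : IsProper (r ≫ p) := by rw [hrb]; infer_instance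
  haveI : IsProper p := (ProjDegLib.toSpec_isProper k n : IsProper (CohB1.ProjSpace.toSpec n k))
  haveI : IsProper r := IsProper.of_comp r p
  let D : Fin (n + 1) → (Proj (CohB1.polyGrading n k)).Opens := fun j =>
    Proj.basicOpen (CohB1.polyGrading n k) (MvPolynomial.X j)
  have hD : ∀ j, IsAffineOpen (D j) := fun j =>
    Proj.isAffineOpen_basicOpen _ _ (MvPolynomial.isHomogeneous_X k j) one_pos
  have hV : ∀ j, IsAffineOpen (genSet hL (v j)) := fun j =>
    CurveAmpLib.isAffineOpen_genSet (X ↘ Spec (CommRingCat.of k)) hL hA (v j)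
  haveI : IsAffineHom r := by
    refine IsZariskiLocalAtTarget.of_iSup_eq_top (P := @IsAffineHom) D (QCohLib.iSup_stdOpen n k) fun j => ?_
    haveI : IsAffine (r ⁻¹ᵁ D j).toScheme := (hpre j).symm ▸ hV j
    haveI : IsAffine (D j).toScheme := hD j
    infer_instance
  haveI : IsFinite r := IsFinite.iff_isProper_and_isAffineHom.mpr ⟨inferInstance, inferInstance⟩
  let φ := Spec.map (CommRingCat.ofHom (algebraMap k K))
  let r' : X' ⟶ pullback p φ := pullback.lift (g ≫ r) (X' ↘ Spec (CommRingCat.of K))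
    (by rw [Category.assoc, hrb]; exact (VeryAmpleLib.isPullback_bc k X K).w)
  have hfst : r' ≫ pullback.fst p φ = g ≫ r := pullback.lift_fst _ _ _
  have hsnd : r' ≫ pullback.snd p φ = X' ↘ Spec (CommRingCat.of K) := pullback.lift_snd _ _ _
  have hsq : IsPullback g r' r (pullback.fst p φ) := by
    refine IsPullback.of_bot ?_ hfst.symm (IsPullback.of_hasPullback p φ)
    rw [hsnd, hrb]
    exact VeryAmpleLib.isPullback_bc k X K
  haveI : IsFinite r' := MorphismProperty.of_isPullback hsq inferInstance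
  haveI : IsAffineHom (pullback.fst p φ) := MorphismProperty.pullback_fst p φ inferInstance
  haveI : IsClosedImmersion r' := by
    have hpre' : ∀ j, r' ⁻¹ᵁ (pullback.fst p φ ⁻¹ᵁ D j) = genSet hL' (v' j) := fun j => by
      rw [hgen j, ← hpre j]
      exact congrArg (fun f : X' ⟶ Proj (CohB1.polyGrading n k) => f ⁻¹ᵁ D j) hfst
    refine PluriEmbLib.isClosedImmersion_of_span (L := pb g L) K hdimK hL' H v' hv'
      (pullback.snd p φ) r' hsnd (fun j => pullback.fst p φ ⁻¹ᵁ D j) (fun j => (hD j).preimage _) hpre'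
      hcov' fun j l => ?_
    let u : Γ(Proj (CohB1.polyGrading n k), D j) := Proj.awayToSection (CohB1.polyGrading n k) (MvPolynomial.X j)
      (TwistLib.frac (CohB1.polyGrading n k) (MvPolynomial.isHomogeneous_X k j) (MvPolynomial.isHomogeneous_X k l))
    refine ⟨(pullback.fst p φ).app (D j) u, ?_⟩
    have h1 := congrArg (res L (hpre j).ge) (hcoef j l)
    rw [AmpleLib.res_smul, AmpleLib.res_res, AmpleLib.res_res] at h1
    have h2 := congrArg (fun t : Γ(L, genSet hL (v j)) => res (pb g L) (hgen j).le (puSec g t)) h1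
    simp only [TwistLib.puSec_smul, TwistLib.puSec_res, AmpleLib.res_smul, AmpleLib.res_res] at h2
    refine Eq.trans ?_ h2
    refine congrArg (fun a => a • res (pb g L) _ (v' j)) ?_
    change (((pullback.fst p φ).app (D j)) ≫ r'.appLE _ _ (hpre' j).ge) u =
      (r.app (D j) ≫ X.presheaf.map (homOfLE (hpre j).ge).op ≫ g.app _ ≫ X'.presheaf.map (homOfLE (hgen j).le).op) u
    refine ConcreteCategory.congr_hom ?_ u
    rw [← Scheme.Hom.comp_appLE]
    change _ = r.appLE (D j) (genSet hL (v j)) (hpre j).ge ≫ g.appLE _ _ (hgen j).le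
    rw [Scheme.Hom.appLE_comp_appLE]
    simp only [hfst]
  have hmono : Mono r := by
    haveI : (MorphismProperty.monomorphisms Scheme.{u}).DescendsAlong (@Surjective ⊓ @Flat ⊓ @QuasiCompact) :=
      MorphismProperty.diagonal_isomorphisms (C := Scheme.{u}) ▸ inferInstance
    have hφ : (@Surjective ⊓ @Flat ⊓ @QuasiCompact : MorphismProperty Scheme.{u}) (pullback.fst p φ) := by
      haveI : Surjective φ := ⟨fun x => ⟨default, Subsingleton.elim _ _⟩⟩
      exact ⟨⟨inferInstance, inferInstance⟩, inferInstance⟩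
    exact MorphismProperty.of_isPullback_of_descendsAlong (P := MorphismProperty.monomorphisms Scheme.{u})
      (Q := (@Surjective ⊓ @Flat ⊓ @QuasiCompact)) hsq.flip hφ (inferInstanceAs (Mono r'))
  exact ⟨n, r, (IsClosedImmersion.iff_isProper_and_mono _).mpr ⟨(‹IsProper r› :), hmono⟩, hrb, hτ⟩

end PluriEmbLib

end
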