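import Groth.Agent.PluriEmbLib.AlgClosed
import Groth.Agent.S1611
import Groth.Agent.SquareLib.BCSpan
import Groth.Agent.MiscFlat6.TopDimCovers
import Groth.Agent.S4673
import Groth.Agent.NefH1Lib.Embed
import Groth.Agent.NodalLib.NodalChar

/-!
# Very ampleness from the degrees on the subcurves of the geometric base change
-/

set_option autoImplicit false
set_option backward.isDefEq.respectTransparency false
set_option backward.isDefEq.respectTransparency.types false
set_option maxHeartbeats 2000000
set_option linter.style.haveILetI false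
universe u

open CategoryTheory CategoryTheory.Limits AlgebraicGeometry TopologicalSpace Opposite
open AmpleLib (GenAt GenOn res)
open TwistLib (genSet)
open KFlatLib (pb puSec)
open GenusZeroLib (kmod e0k ρ)

noncomputable section

namespace PluriEmbLib

/-- A line bundle of big degree on every subcurve is very ample, over an algebraically closed field. -/
theorem exists_embedding_self (k : Type u) [Field k] [IsAlgClosed k] {X : Scheme.{u}}
    [X.Over (Spec (CommRingCat.of k))] [IsProper (X ↘ Spec (CommRingCat.of k))]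
    [IsReduced X] [ConnectedSpace X] (hdim : topologicalKrullDim X = 1)
    {L : X.Modules} (hL : PicF.IsInvertible L) (hA : CohB1.IsAmple L) (H : BigDeg k L) :
    ∃ (n : ℕ) (i : X ⟶ CohB1.ProjSpace n k), IsClosedImmersion i ∧
      i ≫ CohB1.ProjSpace.toSpec n k = X ↘ (Spec (CommRingCat.of k)) ∧
      Nonempty ((Scheme.Modules.pullback i).obj (Twist.twistProjSpace n k 1) ≅ L) := by
  classical
  haveI := CurvLib.isNoetherian k (X := X)
  obtain ⟨n, v, hv⟩ := NefH1Lib.exists_span (X ↘ Spec (CommRingCat.of k)) (CurvLib.isCoh_of_isInvertible hL)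
  have hgg : Curv2.IsGloballyGenerated L :=
    NefH1Lib.Subcurve.globallyGenerated k hdim hL fun J hr hc hd => by
      have := H J hr hc hd
      change 2 * (NefH1Lib.Adj.gJ k J : ℤ) ≤ NefH1Lib.Adj.dJ k L J
      omega
  have hcov := NefH1Lib.cover_of_span hL hgg v fun t => (hv t).elim fun c hc => ⟨_, hc⟩
  obtain ⟨r, hrb, hpre, hcoef, hτ⟩ :=
    GenusZeroLib.exists_toPA_iso (X ↘ Spec (CommRingCat.of k)) hL v hcov
  let p := AmpleThLib.baseA (CohB1.polyGrading n k)
  haveI : IsProper (r ≫ p) := by rw [hrb]; infer_instance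
  haveI : IsProper p := (ProjDegLib.toSpec_isProper k n : IsProper (CohB1.ProjSpace.toSpec n k))
  haveI : IsProper r := IsProper.of_comp r p
  let D : Fin (n + 1) → (Proj (CohB1.polyGrading n k)).Opens := fun j =>
    Proj.basicOpen (CohB1.polyGrading n k) (MvPolynomial.X j)
  have hD : ∀ j, IsAffineOpen (D j) := fun j =>
    Proj.isAffineOpen_basicOpen _ _ (MvPolynomial.isHomogeneous_X k j) one_pos
  haveI : IsAffineHom r := by
    refine IsZariskiLocalAtTarget.of_iSup_eq_top (P := @IsAffineHom) D (QCohLib.iSup_stdOpen n k) fun j => ?_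
    haveI : IsAffine (r ⁻¹ᵁ D j).toScheme :=
      (hpre j).symm ▸ CurveAmpLib.isAffineOpen_genSet (X ↘ Spec (CommRingCat.of k)) hL hA (v j)
    haveI : IsAffine (D j).toScheme := hD j
    infer_instance
  haveI : IsFinite r := IsFinite.iff_isProper_and_isAffineHom.mpr ⟨inferInstance, inferInstance⟩
  refine ⟨n, r, ?_, hrb, hτ⟩
  refine PluriEmbLib.isClosedImmersion_of_span k hdim hL H v hv p r hrb D hD hpre hcov fun j l => ?_
  let u : Γ(Proj (CohB1.polyGrading n k), D j) := Proj.awayToSection (CohB1.polyGrading n k) (MvPolynomial.X j)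
    (TwistLib.frac (CohB1.polyGrading n k) (MvPolynomial.isHomogeneous_X k j) (MvPolynomial.isHomogeneous_X k l))
  refine ⟨u, ?_⟩
  have h1 := congrArg (res L (hpre j).ge) (hcoef j l)
  rw [AmpleLib.res_smul, AmpleLib.res_res, AmpleLib.res_res] at h1
  refine Eq.trans ?_ h1
  congr 1

end PluriEmbLib

end
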